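import Cfsg.Agent.H654.OF.ParAbs
import Cfsg.Agent.H539.OF.Mean
import Cfsg.Agent.H42.Deg.F4LeviB
import Cfsg.Agent.H628.Sq.TwFHC

/-!
# S4884, the row `²F₄(Q)` (helper654): multiplicity one for the parabolic subgroups (`gg_par` of `H539.OF.Pieces`)
-/

set_option autoImplicit false
set_option linter.unusedSectionVars false

namespace Cfsg.Agent.H654.OF

open Cfsg Cfsg.Agent.SplitTwo Cfsg.Agent.SplitTwo.ZS Cfsg.Agent.TitsThree.RankTwoZ Cfsg.Agent.KFacts.TwF4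
open Cfsg.Agent.KFacts.TwF4.Full Cfsg.Agent.KFacts.TwF4.SylU Cfsg.Agent.KFacts.TwF4.Inv Cfsg.Agent.KFacts.TwF4.Arc
open Cfsg.Agent.KFacts.TwF4.Irr Cfsg.Agent.H40.OC Cfsg.Agent.H539.OF Cfsg.Agent.SplitTwo.RootSysZ

universe u

variable {F : Type*} [Field F] {σ : F →+* F} {G : Type u} [Group G] (S : Full σ G)

/-- `(n1 t) ^ 2 = 1` on the torus of `LO` -/
theorem n1_t {t : G} (ht : t ∈ H42.Deg.F4.TM S) : S.n1 * t * (S.n1 * t) = 1 := by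
  obtain ⟨c, rfl⟩ := ht
  have h := Arc.n1_h S c c
  have e : S.n1 * S.h c c * (S.n1 * S.h c c) = (S.n1 * S.h c c * S.n1⁻¹) * S.h c c := by
    rw [Arc.n1_inv S]; group
  rw [e, h, S.h_mul, inv_mul_cancel, S.h_one]

/-- `(n2 t) ^ 2 = 1` on the torus of `L4` -/
theorem n2_t {t : G} (ht : t ∈ H42.Deg.F4B.TE S) : S.n2 * t * (S.n2 * t) = 1 := by
  obtain ⟨c, rfl⟩ := ht
  have h := S.n2_h (Units.map (σ : F →* F) c) c
  have e : S.n2 * S.h (Units.map (σ : F →* F) c) c * (S.n2 * S.h (Units.map (σ : F →* F) c) c) =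
      (S.n2 * S.h (Units.map (σ : F →* F) c) c * S.n2⁻¹) * S.h (Units.map (σ : F →* F) c) c := by
    rw [Arc.n2_inv S]; group
  have h2 : c / Units.map (σ : F →* F) (Units.map (σ : F →* F) c) = c⁻¹ := by
    apply Units.ext
    have h3 := S.sq (c : F)
    have h4 : ((Units.map (σ : F →* F) (Units.map (σ : F →* F) c) : Fˣ) : F) = (c : F) ^ 2 := h3
    rw [Units.val_div_eq_div_val, h4, Units.val_inv_eq_inv_val, pow_two, div_mul_eq_div_div, div_self c.ne_zero, one_div]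
  rw [e, h, h2, S.h_mul, inv_mul_cancel, inv_mul_cancel, S.h_one]

section one

variable {lam : Fin 2 → (↥(UU S) →* ℂˣ)} (hl : Lam (UU S) (DD S) lam)

include hl

/-- a torus element `≠ 1` of `LO` moves `lam 0` -/
theorem reg_zero {t : G} (ht : t ∈ H42.Deg.F4.TM S) (h1 : t ≠ 1) : ∃ (x : G) (hx : x ∈ S.XZ 1) (hx' : t⁻¹ * x * t ∈ S.XZ 1),
    lam 0 ⟨t⁻¹ * x * t, Xs_le_U S 0 hx'⟩ ≠ lam 0 ⟨x, Xs_le_U S 0 hx⟩ := by
  obtain ⟨c, rfl⟩ := ht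
  by_contra hcon
  push Not at hcon
  apply lam_Xs_ne S hl 0
  have hc : (((c * c)⁻¹ : Fˣ) : F) + 1 ≠ 0 := by
    intro h
    apply h1
    have h2 : (((c * c)⁻¹ : Fˣ) : F) = 1 := add_right_cancel (h.trans (char2 S 1).symm)
    have h3 : c * c = 1 := inv_eq_one.1 (Units.ext h2)
    have h4 : ((c : F) + 1) * ((c : F) + 1) = 0 := by
      have h5 : (c : F) * c = 1 := congrArg Units.val h3
      have h6 : (c : F) + c = 0 := char2 S _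
      have h7 : (1 : F) + 1 = 0 := char2 S 1
      linear_combination h5 + h6 + h7
    have h5 : (c : F) + 1 = 0 := mul_self_eq_zero.1 h4
    have h6 : c = 1 := Units.ext (add_right_cancel (h5.trans (char2 S 1).symm))
    rw [h6, S.h_one]
  ext x
  obtain ⟨s, hs⟩ := (mem_X1 S).1 x.2
  set a : F := (((c * c)⁻¹ : Fˣ) : F) with ha
  set s' : F := (a + 1)⁻¹ * s with hs'
  have hx : S.o 0 s' ∈ S.XZ 1 := (mem_X1 S).2 ⟨s', rfl⟩
  have hcj := h_conj_o S c c s'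
  have hx' : (S.h c c)⁻¹ * S.o 0 s' * S.h c c ∈ S.XZ 1 := by
    rw [hcj]
    exact (mem_X1 S).2 ⟨_, rfl⟩
  have h2 := hcon _ hx hx'
  have h3 : (x : G) = (S.h c c)⁻¹ * S.o 0 s' * S.h c c * S.o 0 s' := by
    rw [hcj, S.o_add, ← hs, ← ha]
    congr 1
    rw [hs']
    field_simp
  have h4 : lam 0 ⟨x, Xs_le_U S 0 x.2⟩ = lam 0 ⟨(S.h c c)⁻¹ * S.o 0 s' * S.h c c, Xs_le_U S 0 hx'⟩ *
      lam 0 ⟨S.o 0 s', Xs_le_U S 0 hx⟩ := by
    rw [← map_mul]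
    congr 1
    exact Subtype.ext h3
  show ((lam 0 ⟨x, Xs_le_U S 0 x.2⟩ : ℂˣ) : ℂ) = ((1 : ℂˣ) : ℂ)
  rw [h4, h2, lam_sq S hl 0]

/-- a torus element `≠ 1` of `L4` moves `lam 1` -/
theorem reg_one {t : G} (ht : t ∈ H42.Deg.F4B.TE S) (h1 : t ≠ 1) : ∃ (x : G) (hx : x ∈ S.XZ 8) (hx' : t⁻¹ * x * t ∈ S.XZ 8),
    lam 1 ⟨t⁻¹ * x * t, Xs_le_U S 1 hx'⟩ ≠ lam 1 ⟨x, Xs_le_U S 1 hx⟩ := by
  obtain ⟨c, rfl⟩ := ht
  by_contra hcon
  push Not at hcon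
  apply lam_Xs_ne S hl 1
  set a : F := ((Units.map (σ : F →* F) c : Fˣ) : F) with ha
  have hc : a + 1 ≠ 0 := by
    intro h
    apply h1
    have h2 : a = 1 := add_right_cancel (h.trans (char2 S 1).symm)
    have h3 : Units.map (σ : F →* F) c = 1 := Units.ext h2
    rw [h3, H42.Deg.F4B.map_inj S h3, S.h_one]
  ext x
  obtain ⟨p, v, hs⟩ := (mem_X8 S).1 x.2
  set s' : F := (a + 1)⁻¹ * p with hs'
  have hx : S.e 4 s' 0 ∈ S.XZ 8 := (mem_X8 S).2 ⟨s', 0, rfl⟩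
  have hcj := h_conj_e S (Units.map (σ : F →* F) c) c s' 0
  have hx' : (S.h (Units.map (σ : F →* F) c) c)⁻¹ * S.e 4 s' 0 * S.h (Units.map (σ : F →* F) c) c ∈ S.XZ 8 := by
    rw [hcj]
    exact (mem_X8 S).2 ⟨_, _, rfl⟩
  have h2 := hcon _ hx hx'
  have h4 : lam 1 ⟨x, Xs_le_U S 1 x.2⟩ =
      lam 1 ⟨(S.h (Units.map (σ : F →* F) c) c)⁻¹ * S.e 4 s' 0 * S.h (Units.map (σ : F →* F) c) c, Xs_le_U S 1 hx'⟩ *
      lam 1 ⟨S.e 4 s' 0, Xs_le_U S 1 hx⟩ := by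
    have h5 : ∃ w : F, (x : G) = (S.h (Units.map (σ : F →* F) c) c)⁻¹ * S.e 4 s' 0 * S.h (Units.map (σ : F →* F) c) c *
        S.e 4 s' 0 * S.e 4 0 w := by
      refine ⟨v + a * s' * σ s', ?_⟩
      rw [hcj, S.e_mul, S.e_mul, ← hs, ← ha]
      have e1 : a * s' + s' + 0 = p := by
        rw [hs']
        field_simp
        ring
      rw [e1, map_zero, mul_zero, mul_zero, add_zero, zero_add]
      congr 1
      have h6 : a * s' * σ s' + a * s' * σ s' = 0 := char2 S _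
      linear_combination -h6
    obtain ⟨w, hw⟩ := h5
    have h6 : lam 1 ⟨S.e 4 0 w, e4_mem S 0 w⟩ = 1 := hl.one 1 _ ((mem_DD_one S).2 ⟨w, 1, one_mem _, (mul_one _).symm⟩)
    have h7 : (⟨x, Xs_le_U S 1 x.2⟩ : ↥(UU S)) =
        ⟨(S.h (Units.map (σ : F →* F) c) c)⁻¹ * S.e 4 s' 0 * S.h (Units.map (σ : F →* F) c) c, Xs_le_U S 1 hx'⟩ *
        ⟨S.e 4 s' 0, Xs_le_U S 1 hx⟩ * ⟨S.e 4 0 w, e4_mem S 0 w⟩ := Subtype.ext hw
    rw [h7, map_mul, map_mul, h6, mul_one]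
  show ((lam 1 ⟨x, Xs_le_U S 1 x.2⟩ : ℂˣ) : ℂ) = ((1 : ℂˣ) : ℂ)
  rw [h4, h2, lam_sq S hl 1]

end one

variable [Finite F] [Finite G] (hF : ∃ c : Fˣ, c ≠ 1)

include hF in
/-- **`gg_par` of `H539.OF.Pieces`** -/
theorem gg_par [Fintype ↥(UU S)] {lam : Fin 2 → (↥(UU S) →* ℂˣ)} (hl : Lam (UU S) (DD S) lam) (i : Fin 2)
    (μ : ↥(Par S i) → ℂ) (hμ : CuspP S i μ) :
    classInner (fun u : ↥(UU S) => μ ⟨u, U_le_Par S i u.2⟩) (fun u : ↥(UU S) => (lam i u : ℂ)) = 0 ∨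
    classInner (fun u : ↥(UU S) => μ ⟨u, U_le_Par S i u.2⟩) (fun u : ↥(UU S) => (lam i u : ℂ)) = 1 := by
  have Z := S.zsys8
  fin_cases i
  · refine gg_abs (P := Par S 0) (M := S.LO) (Z := H42.Deg.F4.ZJ S) (V := J S.XZ 2 8) (X := S.XZ 1) (U := UU S)
      (T := H42.Deg.F4.TM S) (n := S.n1) (H42.Deg.F4.LO_le_PP S) (H42.Deg.F4.ZJ_le_PP S) (U_le_Par S 0)
      (Vr_le_U S 0) (Xs_le_U S 0) le_sup_left (fun g hg v hv => H628.Sq.TwFHC.PP_norm S hg hv) ?_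
      (fun z hz m hm => H42.Deg.F4.ZJ_LO S hz hm)
      (fun z hz w hw => H42.Deg.F4.T_comm S (H42.Deg.F4.ZJ_le_T S hz) (H42.Deg.F4.ZJ_le_T S hw))
      (fun u hu => Z.split_ll (by norm_num) (by norm_num) hu) ?_ ?_ (fun t ht => n1_t S ht) hμ.irr hμ.triv (lam 0)
      (fun u hu => hl.one 0 u hu) (lam_sq S hl 0) (fun t ht h => reg_zero S hl ht h)
    · intro g hg
      obtain ⟨l, hl, n, hn, rfl⟩ := H42.Deg.F4.PP_form S hg
      obtain ⟨z, hz, y, hy, rfl⟩ := H42.Deg.F4.N1_form S hn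
      exact ⟨l, hl, z, hz, y, hy, by rw [mul_assoc]⟩
    · intro x hx hx'
      exact Z.inter 1 x hx (J_mono (by norm_num) (by norm_num) hx')
    · intro m hm
      rcases H42.Deg.F4.LO_bruhat S hm with h | ⟨x, hx, b, hb, rfl⟩
      · obtain ⟨x, hx, t, ht, rfl⟩ := H42.Deg.F4.BM_form S h
        exact Or.inl ⟨x, hx, t, ht, rfl⟩
      · obtain ⟨y, hy, t, ht, rfl⟩ := H42.Deg.F4.BM_form S hb
        refine Or.inr ⟨x, hx, t, ht, t⁻¹ * y * t, ?_, by group⟩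
        have := S.T_conj (inv_mem (H42.Deg.F4.TM_le_T S ht)) 1 hy
        rwa [inv_inv] at this
  · refine gg_abs (P := Par S 1) (M := L4 S) (Z := H42.Deg.F4B.ZE S) (V := J S.XZ 1 7) (X := S.XZ 8) (U := UU S)
      (T := H42.Deg.F4B.TE S) (n := S.n2) (H42.Deg.F4B.L4_le_PB S) ((H42.Deg.F4B.ZE_le_T S).trans (T_le_Par S 1))
      (U_le_Par S 1) (Vr_le_U S 1) (Xs_le_U S 1) le_sup_right (fun g hg v hv => H628.Sq.TwFHC.PB_norm S hg hv) ?_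
      (fun z hz m hm => H42.Deg.F4B.ZE_L4 S hz hm)
      (fun z hz w hw => H42.Deg.F4.T_comm S (H42.Deg.F4B.ZE_le_T S hz) (H42.Deg.F4B.ZE_le_T S hw))
      (fun u hu => Z.split_rl (by norm_num) (by norm_num) hu) ?_ ?_ (fun t ht => n2_t S ht) hμ.irr hμ.triv (lam 1)
      (fun u hu => hl.one 1 u (Vr_le_DD S 1 hu)) (lam_sq S hl 1) (fun t ht h => reg_one S hl ht h)
    · intro g hg
      obtain ⟨l, hl, n, hn, rfl⟩ := H42.Deg.F4B.PB_form S hg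
      obtain ⟨z, hz, y, hy, rfl⟩ := H42.Deg.F4B.NB_form S hn
      exact ⟨l, hl, z, hz, y, hy, by rw [mul_assoc]⟩
    · intro x hx hx'
      exact Z.inter' (k := 8) hx (J_mono (by norm_num) (by norm_num) hx')
    · intro m hm
      rcases H42.Deg.F4B.L4_bruhat S hF hm with h | ⟨x, hx, b, hb, rfl⟩
      · obtain ⟨x, hx, t, ht, rfl⟩ := H42.Deg.F4B.BE_form S h
        exact Or.inl ⟨x, hx, t, ht, rfl⟩
      · obtain ⟨y, hy, t, ht, rfl⟩ := H42.Deg.F4B.BE_form S hb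
        refine Or.inr ⟨x, hx, t, ht, t⁻¹ * y * t, ?_, by group⟩
        have := S.T_conj (inv_mem (H42.Deg.F4B.TE_le_T S ht)) 8 hy
        rwa [inv_inv] at this

end Cfsg.Agent.H654.OF
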